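import Groth.Agent.ResProp.EF.K459.Rees
import Mathlib.LinearAlgebra.Finsupp.LinearCombination
import Mathlib.RingTheory.Adjoin.Basic

/-!
# Ordered monomials of length `m`

`x : σ → B`, `x i₀ = 1`, `x` generates the `R`-algebra `B`.

* `exists_le_spanMon`: every finite set is contained in the span of the monomials of length `m`, `m` large.
* `homRel_sum`, `mem_homRel_iff_sum`: the homogeneous relations of degree `m` are the `∑_J F_J X^J` with
  `∑_J F_J x^J = 0`, `J : Fin m → σ`.
* `choice`: both for the same `m`.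
-/

set_option autoImplicit false
universe u v w

namespace Groth.Agent.ResProp.EF.K459

open MvPolynomial

variable {R : Type u} {B : Type v} [CommRing R] [CommRing B] [Algebra R B] {σ : Type w}

/-- The ordered monomial `x^J = ∏ x (J i)`. -/
def mon {B : Type v} [CommRing B] {σ : Type w} (x : σ → B) {m : ℕ} (J : Fin m → σ) : B :=
  ∏ i, x (J i)

/-- The span of the ordered monomials of length `m`. -/
def spanMon (R : Type u) {B : Type v} [CommRing R] [CommRing B] [Algebra R B] {σ : Type w}
    (x : σ → B) (m : ℕ) : Submodule R B :=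
  Submodule.span R (Set.range fun J : Fin m → σ => mon x J)

theorem mon_mem_spanMon (x : σ → B) {m : ℕ} (J : Fin m → σ) : mon x J ∈ spanMon R x m :=
  Submodule.subset_span ⟨J, rfl⟩

theorem spanMon_le_succ (x : σ → B) (i₀ : σ) (h0 : x i₀ = 1) (m : ℕ) :
    spanMon R x m ≤ spanMon R x (m + 1) := by
  rw [spanMon, Submodule.span_le]
  rintro _ ⟨J, rfl⟩
  have h1 : mon x (Fin.cons i₀ J : Fin (m + 1) → σ) = mon x J := by
    unfold mon
    rw [Fin.prod_univ_succ, Fin.cons_zero, h0, one_mul]
    rfl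
  change mon x J ∈ spanMon R x (m + 1)
  rw [← h1]
  exact mon_mem_spanMon x _

theorem spanMon_mono (x : σ → B) (i₀ : σ) (h0 : x i₀ = 1) : Monotone (spanMon R x) :=
  monotone_nat_of_le_succ (spanMon_le_succ x i₀ h0)

theorem mul_mem_spanMon (x : σ → B) {m k : ℕ} {a b : B} (ha : a ∈ spanMon R x m)
    (hb : b ∈ spanMon R x k) : a * b ∈ spanMon R x (m + k) := by
  have h1 : spanMon R x m * spanMon R x k ≤ spanMon R x (m + k) := by
    rw [spanMon, spanMon, Submodule.span_mul_span, Submodule.span_le]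
    rintro _ ⟨_, ⟨J, rfl⟩, _, ⟨K, rfl⟩, rfl⟩
    have h2 : mon x (Fin.append J K) = mon x J * mon x K := by
      unfold mon
      rw [Fin.prod_univ_add]
      simp only [Fin.append_left, Fin.append_right]
    change mon x J * mon x K ∈ spanMon R x (m + k)
    rw [← h2]
    exact mon_mem_spanMon x _
  exact h1 (Submodule.mul_mem_mul ha hb)

theorem exists_mem_spanMon (x : σ → B) (i₀ : σ) (h0 : x i₀ = 1)
    (hgen : Algebra.adjoin R (Set.range x) = ⊤) (b : B) : ∃ m, b ∈ spanMon R x m := by
  have hb : b ∈ Algebra.adjoin R (Set.range x) := by rw [hgen]; trivial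
  induction hb using Algebra.adjoin_induction with
  | mem y hy =>
    obtain ⟨i, rfl⟩ := hy
    refine ⟨1, ?_⟩
    have h1 : mon x (fun _ : Fin 1 => i) = x i := by simp [mon]
    rw [← h1]
    exact mon_mem_spanMon x _
  | algebraMap r =>
    refine ⟨0, ?_⟩
    rw [Algebra.algebraMap_eq_smul_one]
    refine Submodule.smul_mem _ _ ?_
    have h1 : mon x (Fin.elim0 : Fin 0 → σ) = 1 := by simp [mon]
    rw [← h1]
    exact mon_mem_spanMon x _
  | add y z _ _ hy hz =>
    obtain ⟨m, hm⟩ := hy
    obtain ⟨k, hk⟩ := hz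
    exact ⟨max m k, Submodule.add_mem _ (spanMon_mono x i₀ h0 (le_max_left _ _) hm)
      (spanMon_mono x i₀ h0 (le_max_right _ _) hk)⟩
  | mul y z _ _ hy hz =>
    obtain ⟨m, hm⟩ := hy
    obtain ⟨k, hk⟩ := hz
    exact ⟨m + k, mul_mem_spanMon x hm hk⟩

theorem exists_le_spanMon (x : σ → B) (i₀ : σ) (h0 : x i₀ = 1)
    (hgen : Algebra.adjoin R (Set.range x) = ⊤) (S : Set B) (hS : S.Finite) :
    ∃ m₀, ∀ m ≥ m₀, ∀ b ∈ S, b ∈ spanMon R x m := by
  classical
  choose d hd using exists_mem_spanMon (R := R) x i₀ h0 hgen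
  refine ⟨hS.toFinset.sup d, fun m hm b hb => ?_⟩
  have h1 : d b ≤ hS.toFinset.sup d := Finset.le_sup (f := d) (hS.mem_toFinset.2 hb)
  exact spanMon_mono x i₀ h0 (h1.trans hm) (hd b)

/-- A homogeneous polynomial of degree `m` is a combination of ordered monomials of length `m`. -/
theorem exists_eq_sum_mon [Fintype σ] {m : ℕ} {f : MvPolynomial σ R} (hf : f.IsHomogeneous m) :
    ∃ F : (Fin m → σ) → R, f = ∑ J, C (F J) * mon (fun i => (X i : MvPolynomial σ R)) J := by
  classical
  have h1 : f ∈ Submodule.span R (Set.range fun J : Fin m → σ =>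
      mon (fun i => (X i : MvPolynomial σ R)) J) := by
    rw [f.as_sum]
    refine Submodule.sum_mem _ fun d hd => ?_
    have hdeg : d.degree = m := by
      have := hf (mem_support_iff.1 hd)
      rw [Finsupp.degree_eq_weight_one]
      exact this
    have h2 : (monomial d (coeff d f) : MvPolynomial σ R) = coeff d f • monomial d (1 : R) := by
      rw [smul_monomial, smul_eq_mul, mul_one]
    rw [h2]
    refine Submodule.smul_mem _ _ (Submodule.subset_span ?_)
    -- the list of the variables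
    have h3 : (Finsupp.toMultiset d).card = m := by
      rw [Finsupp.card_toMultiset]
      exact hdeg
    obtain ⟨l, hl⟩ : ∃ l : List σ, (l : Multiset σ) = Finsupp.toMultiset d :=
      ⟨_, Quot.out_eq (Finsupp.toMultiset d)⟩
    have hlen : l.length = m := by
      rw [← Multiset.coe_card, hl, h3]
    subst hlen
    refine ⟨l.get, ?_⟩
    change mon (fun i => (X i : MvPolynomial σ R)) l.get = monomial d 1
    unfold mon
    rw [monomial_eq, C_1, one_mul]
    have h4 : (∏ i : Fin l.length, (X (l.get i) : MvPolynomial σ R)) =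
        (l.map (fun i => (X i : MvPolynomial σ R))).prod := by
      rw [← List.prod_ofFn]
      congr 1
      rw [← List.ofFn_get (l.map (fun i => (X i : MvPolynomial σ R)))]
      simp
    rw [h4]
    have h5 : (l.map (fun i => (X i : MvPolynomial σ R))).prod =
        ((Finsupp.toMultiset d).map (fun i => (X i : MvPolynomial σ R))).prod := by
      rw [← hl, Multiset.map_coe, Multiset.prod_coe]
    rw [h5, Finsupp.toMultiset_map, Finsupp.prod_toMultiset,
      Finsupp.prod_mapDomain_index (by simp) (by intros; rw [pow_add])]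
  rw [Finsupp.mem_span_range_iff_exists_finsupp] at h1
  obtain ⟨c, hc⟩ := h1
  refine ⟨c, ?_⟩
  rw [← hc, Finsupp.sum_fintype _ _ (by simp)]
  refine Finset.sum_congr rfl fun J _ => ?_
  rw [smul_eq_C_mul]

theorem isHomogeneous_mon {m : ℕ} (J : Fin m → σ) :
    (mon (fun i => (X i : MvPolynomial σ R)) J).IsHomogeneous m := by
  have h := IsHomogeneous.prod (R := R) Finset.univ (fun i : Fin m => (X (J i) : MvPolynomial σ R))
    (fun _ => 1) (fun i _ => isHomogeneous_X _ _)
  unfold mon
  simpa using h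

theorem aeval_mon (x : σ → B) {m : ℕ} (J : Fin m → σ) :
    aeval x (mon (fun i => (X i : MvPolynomial σ R)) J) = mon x J := by
  unfold mon
  rw [map_prod]
  simp

theorem mem_homRel_iff_sum [Fintype σ] (x : σ → B) (m : ℕ) (f : MvPolynomial σ R) :
    f ∈ homRel R x m ↔ ∃ F : (Fin m → σ) → R, (∑ J, algebraMap R B (F J) * mon x J) = 0 ∧
      f = ∑ J, C (F J) * mon (fun i => (X i : MvPolynomial σ R)) J := by
  rw [mem_homRel]
  constructor
  · rintro ⟨h1, h2⟩
    obtain ⟨F, hF⟩ := exists_eq_sum_mon h1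
    refine ⟨F, ?_, hF⟩
    rw [hF, map_sum] at h2
    simpa only [map_mul, aeval_C, aeval_mon] using h2
  · rintro ⟨F, h1, rfl⟩
    refine ⟨?_, ?_⟩
    · refine IsHomogeneous.sum _ _ _ fun J _ => ?_
      have := (isHomogeneous_C σ (F J)).mul (isHomogeneous_mon (R := R) J)
      rwa [zero_add] at this
    · rw [map_sum]
      simpa only [map_mul, aeval_C, aeval_mon] using h1

/-- Choice of `m`. -/
theorem choice [IsNoetherianRing R] [Fintype σ] (x : σ → B) (i₀ : σ) (h0 : x i₀ = 1)
    (hgen : Algebra.adjoin R (Set.range x) = ⊤) (S : Set B) (hS : S.Finite) :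
    ∃ m₀, ∀ m ≥ m₀, (∀ b ∈ S, ∃ F : (Fin m → σ) → R, b = ∑ J, algebraMap R B (F J) * mon x J) ∧
      ∀ I : Ideal (MvPolynomial σ R), (X i₀ - 1) ∈ I →
        (∀ F : (Fin m → σ) → R, (∑ J, algebraMap R B (F J) * mon x J) = 0 →
          (∑ J, C (F J) * mon (fun i => (X i : MvPolynomial σ R)) J) ∈ I) →
        ∀ f : MvPolynomial σ R, aeval x f = 0 → f ∈ I := by
  obtain ⟨m₁, h₁⟩ := exists_le_spanMon (R := R) x i₀ h0 hgen S hS
  obtain ⟨m₂, h₂⟩ := exists_ker_eq (R := R) x i₀ h0
  refine ⟨max m₁ m₂, fun m hm => ⟨fun b hb => ?_, fun I hI hrel f hf => ?_⟩⟩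
  · have h3 := h₁ m ((le_max_left _ _).trans hm) b hb
    rw [spanMon, Finsupp.mem_span_range_iff_exists_finsupp] at h3
    obtain ⟨c, hc⟩ := h3
    refine ⟨c, ?_⟩
    rw [← hc, Finsupp.sum_fintype _ _ (by simp)]
    refine Finset.sum_congr rfl fun J _ => ?_
    rw [Algebra.smul_def]
  · have h3 : f ∈ RingHom.ker (aeval x : MvPolynomial σ R →ₐ[R] B) := hf
    rw [h₂ m ((le_max_right _ _).trans hm)] at h3
    refine (Ideal.span_le.2 ?_ : _ ≤ I) h3
    intro g hg
    rcases Set.mem_insert_iff.1 hg with rfl | hg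
    · exact hI
    · obtain ⟨F, hF, rfl⟩ := (mem_homRel_iff_sum x m g).1 hg
      exact hrel F hF

end Groth.Agent.ResProp.EF.K459
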