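import Mathlib.RingTheory.MvPolynomial.Homogeneous
import Mathlib.RingTheory.Polynomial.Basic
import Mathlib.RingTheory.Noetherian.Basic
import Mathlib.RingTheory.MvPolynomial.Basic
import Mathlib.Algebra.Polynomial.AlgebraMap

/-!
# The relations between generators of an algebra containing `1` (Rees kernel)

`x : σ → B` a finite family in an `R`-algebra `B`, `R` Noetherian, `x i₀ = 1`.

* `exists_homRel_span`: the homogeneous relations are generated by those of degree `≤ m₀`.
* `exists_ker_eq`: for all `m ≥ m₀` the kernel of `aeval x` is generated by `X i₀ - 1` and the homogeneous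
  relations of degree `m`.
-/

set_option autoImplicit false
universe u v w

namespace Groth.Agent.ResProp.EF.K459

open MvPolynomial

variable {R : Type u} {B : Type v} [CommRing R] [CommRing B] [Algebra R B] {σ : Type w}

/-- The homogeneous relations of degree `m` between the `x i`. -/
noncomputable def homRel (R : Type u) {B : Type v} [CommRing R] [CommRing B] [Algebra R B] {σ : Type w}
    (x : σ → B) (m : ℕ) : Submodule R (MvPolynomial σ R) :=
  homogeneousSubmodule σ R m ⊓ LinearMap.ker (aeval x : MvPolynomial σ R →ₐ[R] B).toLinearMap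

theorem mem_homRel (x : σ → B) (m : ℕ) (f : MvPolynomial σ R) :
    f ∈ homRel R x m ↔ f.IsHomogeneous m ∧ aeval x f = 0 := by
  simp [homRel, mem_homogeneousSubmodule]

/-- The homogeneous relations of all degrees. -/
def allRel (R : Type u) {B : Type v} [CommRing R] [CommRing B] [Algebra R B] {σ : Type w}
    (x : σ → B) : Set (MvPolynomial σ R) := {f | ∃ m, f ∈ homRel R x m}

theorem exists_homRel_span [IsNoetherianRing R] [Finite σ] (x : σ → B) :
    ∃ m₀ : ℕ, ∀ f ∈ allRel R x, f ∈ Ideal.span {g | ∃ m ≤ m₀, g ∈ homRel R x m} := by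
  classical
  have hN : IsNoetherianRing (MvPolynomial σ R) := inferInstance
  have hfg : (Ideal.span (allRel R x)).FG := IsNoetherian.noetherian _
  obtain ⟨t, ht, hspan⟩ := (Submodule.fg_span_iff_fg_span_finset_subset _).1 hfg
  choose! d hd using fun g (hg : g ∈ allRel R x) => hg
  refine ⟨t.sup d, fun f hf => ?_⟩
  have h1 : f ∈ Ideal.span (t : Set (MvPolynomial σ R)) := by
    have : Ideal.span (t : Set (MvPolynomial σ R)) = Ideal.span (allRel R x) := hspan.symm
    rw [this]
    exact Ideal.subset_span hf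
  refine Ideal.span_mono ?_ h1
  intro g hg
  exact ⟨d g, Finset.le_sup (f := d) hg, hd g (ht hg)⟩

theorem X_pow_mul_mem_homRel (x : σ → B) (i₀ : σ) {m k : ℕ} {f : MvPolynomial σ R}
    (hf : f ∈ homRel R x m) : X i₀ ^ k * f ∈ homRel R x (k + m) := by
  rw [mem_homRel] at hf ⊢
  refine ⟨(isHomogeneous_X_pow i₀ k).mul hf.1, ?_⟩
  rw [map_mul, hf.2, mul_zero]

theorem X_pow_sub_one_mem (i₀ : σ) (k : ℕ) :
    (X i₀ ^ k - 1 : MvPolynomial σ R) ∈ Ideal.span {(X i₀ - 1 : MvPolynomial σ R)} := by
  rw [Ideal.mem_span_singleton]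
  exact sub_one_dvd_pow_sub_one _ _ |> fun h => by simpa using h

/-- Homogenisation with respect to the variable `X i₀`, with `x i₀ = 1`: a relation is congruent to a homogeneous
one modulo `X i₀ - 1`. -/
theorem exists_homogeneous (x : σ → B) (i₀ : σ) (h0 : x i₀ = 1) (f : MvPolynomial σ R)
    (hf : aeval x f = 0) :
    ∃ F ∈ allRel R x, f - F ∈ Ideal.span {(X i₀ - 1 : MvPolynomial σ R)} := by
  classical
  let d := f.totalDegree
  let F : MvPolynomial σ R := ∑ i ∈ Finset.range (d + 1), X i₀ ^ (d - i) * homogeneousComponent i f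
  have hsum : f = ∑ i ∈ Finset.range (d + 1), homogeneousComponent i f :=
    (sum_homogeneousComponent f).symm
  have hF : F.IsHomogeneous d := by
    refine IsHomogeneous.sum _ _ _ fun i hi => ?_
    have h1 : d - i + i = d := Nat.sub_add_cancel (Nat.lt_succ_iff.1 (Finset.mem_range.1 hi))
    have h2 := (isHomogeneous_X_pow (R := R) i₀ (d - i)).mul (homogeneousComponent_isHomogeneous i f)
    rwa [h1] at h2
  refine ⟨F, ⟨d, ?_⟩, ?_⟩
  · rw [mem_homRel]
    refine ⟨hF, ?_⟩
    simp only [F, map_sum, map_mul, map_pow, aeval_X, h0, one_pow, one_mul]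
    rw [← map_sum, ← hsum, hf]
  · have h3 : f - F = ∑ i ∈ Finset.range (d + 1),
        -((X i₀ ^ (d - i) - 1) * homogeneousComponent i f) := by
      have h5 : (∑ i ∈ Finset.range (d + 1), homogeneousComponent i f) - F =
          ∑ i ∈ Finset.range (d + 1), -((X i₀ ^ (d - i) - 1) * homogeneousComponent i f) := by
        simp only [F]
        rw [← Finset.sum_sub_distrib]
        refine Finset.sum_congr rfl fun i _ => ?_
        ring
      rwa [← hsum] at h5
    rw [h3]
    refine Ideal.sum_mem _ fun i _ => ?_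
    rw [neg_mem_iff]
    exact Ideal.mul_mem_right _ _ (X_pow_sub_one_mem i₀ _)

theorem exists_ker_eq [IsNoetherianRing R] [Finite σ] (x : σ → B) (i₀ : σ) (h0 : x i₀ = 1) :
    ∃ m₀ : ℕ, ∀ m ≥ m₀, RingHom.ker (aeval x : MvPolynomial σ R →ₐ[R] B) =
      Ideal.span (insert (X i₀ - 1) (homRel R x m : Set (MvPolynomial σ R))) := by
  obtain ⟨m₀, hm₀⟩ := exists_homRel_span (R := R) x
  refine ⟨m₀, fun m hm => ?_⟩
  have hX : (X i₀ - 1 : MvPolynomial σ R) ∈
      Ideal.span (insert (X i₀ - 1) (homRel R x m : Set (MvPolynomial σ R))) :=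
    Ideal.subset_span (Set.mem_insert _ _)
  have hXle : Ideal.span {(X i₀ - 1 : MvPolynomial σ R)} ≤
      Ideal.span (insert (X i₀ - 1) (homRel R x m : Set (MvPolynomial σ R))) := by
    rw [Ideal.span_le, Set.singleton_subset_iff]
    exact hX
  apply le_antisymm
  · intro f hf
    obtain ⟨F, hF, hfF⟩ := exists_homogeneous x i₀ h0 f hf
    have h1 := hm₀ F hF
    have h2 : Ideal.span {g | ∃ m' ≤ m₀, g ∈ homRel R x m'} ≤
        Ideal.span (insert (X i₀ - 1) (homRel R x m : Set (MvPolynomial σ R))) := by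
      rw [Ideal.span_le]
      rintro g ⟨m', hm', hg⟩
      have h3 : X i₀ ^ (m - m') * g ∈ homRel R x m := by
        have := X_pow_mul_mem_homRel x i₀ (k := m - m') hg
        rwa [Nat.sub_add_cancel (hm'.trans hm)] at this
      have h4 : X i₀ ^ (m - m') * g ∈
          Ideal.span (insert (X i₀ - 1) (homRel R x m : Set (MvPolynomial σ R))) :=
        Ideal.subset_span (Set.mem_insert_of_mem _ h3)
      have h5 : (X i₀ ^ (m - m') - 1) * g ∈
          Ideal.span (insert (X i₀ - 1) (homRel R x m : Set (MvPolynomial σ R))) :=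
        Ideal.mul_mem_right _ _ (hXle (X_pow_sub_one_mem i₀ _))
      have h6 := Ideal.sub_mem _ h4 h5
      have h7 : X i₀ ^ (m - m') * g - (X i₀ ^ (m - m') - 1) * g = g := by ring
      rwa [h7] at h6
    have h8 := Ideal.add_mem _ (hXle hfF) (h2 h1)
    rwa [sub_add_cancel] at h8
  · rw [Ideal.span_le]
    intro g hg
    rcases Set.mem_insert_iff.1 hg with rfl | hg
    · change aeval x (X i₀ - 1 : MvPolynomial σ R) = 0
      rw [map_sub, aeval_X, h0, map_one, sub_self]
    · exact ((mem_homRel x m g).1 hg).2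

end Groth.Agent.ResProp.EF.K459
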